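import Groth.Agent.Lib.Adj27.SmoothExt
import Groth.Agent.Lib.UnitLF26.Basic
import Groth.Agent.Lib.OX.LocFreeTensor
import Groth.Agent.S1937
import Groth.Agent.S7795
import Groth.Agent.S0981

/-!
# Invariant differentials of abelian schemes
-/

set_option backward.isDefEq.respectTransparency false

universe u

open CategoryTheory CategoryTheory.Limits MonoidalCategory CartesianMonoidalCategory MonObj GrpObj AlgebraicGeometry

noncomputable section

namespace GrothLib.OmegaAb15

/-- The sheaf of differentials of a smooth morphism is finite locally free. -/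
theorem isFinLocFree_omega {S X : Scheme.{u}} (p : X ⟶ S) [QuasiSeparated p] [Smooth p] :
    FlatMod.IsFinLocFree (Omega.sheaf p) := by
  refine Adj27.isFinLocFree_of_frames fun x => ?_
  obtain ⟨U, hU, T, hT, hxT, e, h⟩ := Smooth.exists_isStandardSmooth p x
  letI := (p.appLE U T e).hom.toAlgebra
  haveI : Algebra.IsStandardSmooth Γ(S, U) Γ(X, T) := h
  obtain ⟨gI, σ, _, _, ⟨P⟩⟩ := ‹Algebra.IsStandardSmooth Γ(S, U) Γ(X, T)›
  haveI : Algebra.IsStandardSmoothOfRelativeDimension P.dimension Γ(S, U) Γ(X, T) := ⟨⟨gI, σ, ‹_›, ‹_›, P, rfl⟩⟩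
  obtain ⟨s, hs⟩ := Adj27.exists_bijective_coords P.dimension Γ(S, U) Γ(X, T)
  exact ⟨T, P.dimension, _, hxT, Adj27.isFrame_dd p hT hU e s hs⟩

/-- Pullback along a section, after pullback along the projection, is the identity. -/
def pullbackSectionIso {X S : Scheme.{u}} {f : X ⟶ S} {e : S ⟶ X} (he : e ≫ f = 𝟙 S) :
    Scheme.Modules.pullback f ⋙ Scheme.Modules.pullback e ≅ 𝟭 S.Modules :=
  Scheme.Modules.pullbackComp e f ≪≫ Scheme.Modules.pullbackCongr he ≪≫ Scheme.Modules.pullbackId S

/-- The unit of pullback along a section is bijective on the sections of pulled-back locally free sheaves,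
when the structure sheaf pushes forward to the structure sheaf. -/
theorem isIso_push_unit {X S : Scheme.{u}} (f : X ⟶ S) (e : S ⟶ X) (he : e ≫ f = 𝟙 S)
    (hf : ∀ U : S.Opens, Function.Bijective (f.app U)) {C : S.Modules} (hC : FlatMod.IsFinLocFree C) :
    IsIso ((Scheme.Modules.pushforward f).map
      ((Scheme.Modules.pullbackPushforwardAdjunction e).unit.app ((Scheme.Modules.pullback f).obj C))) := by
  let L := Scheme.Modules.pullback f ⋙ Scheme.Modules.pullback e
  haveI : L.Full := Functor.Full.of_iso (pullbackSectionIso he).symm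
  haveI : L.Faithful := Functor.Faithful.of_iso (pullbackSectionIso he).symm
  let adj : L ⊣ Scheme.Modules.pushforward e ⋙ Scheme.Modules.pushforward f :=
    (Scheme.Modules.pullbackPushforwardAdjunction f).comp (Scheme.Modules.pullbackPushforwardAdjunction e)
  haveI : IsIso adj.unit := adj.unit_isIso_of_L_fully_faithful
  haveI h1 : IsIso ((Scheme.Modules.pullbackPushforwardAdjunction f).unit.app C) :=
    UnitLF26.isIso_unit f hf hC
  have h2 : IsIso (adj.unit.app C) := inferInstance
  have h3 : adj.unit.app C = (Scheme.Modules.pullbackPushforwardAdjunction f).unit.app C ≫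
      (Scheme.Modules.pushforward f).map
        ((Scheme.Modules.pullbackPushforwardAdjunction e).unit.app ((Scheme.Modules.pullback f).obj C)) :=
    Adjunction.comp_unit_app _ _ C
  rw [h3] at h2
  exact IsIso.of_isIso_comp_left ((Scheme.Modules.pullbackPushforwardAdjunction f).unit.app C) _

/-- The same for any module isomorphic to such a pullback. -/
theorem isIso_push_unit_of_iso {X S : Scheme.{u}} (f : X ⟶ S) (e : S ⟶ X) (he : e ≫ f = 𝟙 S)
    (hf : ∀ U : S.Opens, Function.Bijective (f.app U)) {C : S.Modules} (hC : FlatMod.IsFinLocFree C)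
    {M : X.Modules} (i : M ≅ (Scheme.Modules.pullback f).obj C) :
    IsIso ((Scheme.Modules.pushforward f).map
      ((Scheme.Modules.pullbackPushforwardAdjunction e).unit.app M)) := by
  have h := congrArg (Scheme.Modules.pushforward f).map
    ((Scheme.Modules.pullbackPushforwardAdjunction e).unit.naturality i.hom)
  rw [Functor.map_comp, Functor.map_comp] at h
  haveI := isIso_push_unit f e he hf hC
  refine @IsIso.of_isIso_comp_right _ _ _ _ _ _ ((Scheme.Modules.pushforward f).map
    ((Scheme.Modules.pullback e ⋙ Scheme.Modules.pushforward e).map i.hom)) inferInstance ?_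
  rw [← h]
  infer_instance

variable {S : Scheme.{u}} (A : Over S) [GrpObj A] [IsProper A.hom] [Flat A.hom] [LocallyOfFinitePresentation A.hom]
  [GeometricallyReduced A.hom] [GeometricallyConnected A.hom]

theorem bijective_app (V : S.Opens) : Function.Bijective (A.hom.app V) := by
  have h := Groth.Agent.S0981.result A.hom (fun K _ _ g => by
    haveI : IsReduced (pullback A.hom g) := GeometricallyReduced.geometrically_isReduced g _ _ (IsPullback.of_hasPullback A.hom g)
    exact ⟨inferInstance, GeometricallyConnected.geometrically_connectedSpace g _ _ (IsPullback.of_hasPullback A.hom g)⟩) V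
  exact (ConcreteCategory.isIso_iff_bijective _).1 h

theorem eta_hom : η[A].left ≫ A.hom = 𝟙 S := Over.w η[A]

/-- The sheaf of differentials is pulled back from its invariant part, which is locally free. -/
theorem exists_omega_iso : ∃ C : S.Modules, FlatMod.IsFinLocFree C ∧
    Nonempty ((Scheme.Modules.pullback η[A].left).obj (Omega.sheaf A.hom) ≅ C) ∧
      Nonempty (Omega.sheaf A.hom ≅ (Scheme.Modules.pullback A.hom).obj C) := by
  haveI := Groth.Agent.S7795.result A
  obtain ⟨i⟩ := (Groth.Agent.S1937.result S A).1
  let C := (Scheme.Modules.pullback η[A].left).obj (Omega.sheaf A.hom)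
  let j : C ≅ Omega.conormal η[A].left :=
    (Scheme.Modules.pullback η[A].left).mapIso i ≪≫ (pullbackSectionIso (eta_hom A)).app _
  exact ⟨C, OX.isFinLocFree_pullback _ (isFinLocFree_omega A.hom), ⟨Iso.refl _⟩,
    ⟨i ≪≫ (Scheme.Modules.pullback A.hom).mapIso j.symm⟩⟩

end GrothLib.OmegaAb15
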